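import Cfsg.Agent.Spor.Fi306936.S.D0

set_option autoImplicit false
set_option maxRecDepth 100000000
set_option Elab.async false

namespace Cfsg.Agent.Spor.Fi306936.S

theorem gr4 : sub M3 (U.growI W2 [1, 2, 3, 4, 5, 6, 7, 8, 9, 3, 2, 1, 0, 1, 2, 3, 4, 5, 6, 7, 3, 2, 1, 0, 4, 5, 6, 7, 8, 9, 3, 2, 1, 0, 4, 5, 6, 7, 8, 9, 3, 2, 1, 0, 4, 5, 6, 7] (Nat.shiftLeft 1 8)) = true := by decide +kernel

theorem gr6 : sub M5 (U.growI W2 [8, 3, 2, 1, 0, 4, 5, 6, 9, 3, 2, 1] M3) = true := by decide +kernel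

theorem sd8 : U.sends [23, 1, 21, 23] 0 8 = true := by decide +kernel

theorem gr10 : sub M9 (U.growI ([23, 1, 21, 23] :: W2) [0, 2, 3, 4, 5, 6, 7, 8, 9, 10, 4, 3, 2, 1, 0, 2, 3, 4, 5, 6, 7, 8, 4, 3, 2, 1, 0, 2, 5, 6, 7, 8, 9, 10, 4, 3, 2, 1] (Nat.shiftLeft 1 0)) = true := by decide +kernel

theorem gr11 : sub (ones 306936) (U.growI ([23, 1, 21, 23] :: W2) [0, 2, 5, 6, 7, 8, 9, 4, 3, 2, 1, 0, 5, 6, 7, 8, 4, 3, 2, 1, 5, 6, 7, 8, 10, 4, 3, 2, 5, 6] M9) = true := by decide +kernel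

theorem gr14 : sub M13 (U.growI W2 [0, 1, 2, 3, 4, 5, 6, 7, 8, 9, 10, 3, 2, 1, 0, 4, 5, 6, 7, 3, 2, 1, 0, 4, 5, 6, 7, 8, 9, 3, 2, 1, 0, 4, 5, 6, 7, 8, 3, 2, 1, 0, 4, 5, 6, 7, 8, 9] (Nat.shiftLeft 1 1)) = true := by decide +kernel

theorem gr16 : sub M15 (U.growI W2 [3, 2, 1, 0, 4, 5, 6, 7, 8, 9, 3, 2, 1, 0, 4, 5, 6, 9, 3] M13) = true := by decide +kernel

theorem sd18 : U.sends [23] 0 1 = true := by decide +kernel

theorem gr20 : sub M19 (U.growI ([23] :: W2) [0, 1, 2, 3, 4, 5, 6, 7, 8, 9, 10, 11, 4, 3, 2, 1, 0, 1, 2, 3, 4, 5, 6, 7, 8, 4, 3, 2, 1, 0, 5, 6, 7, 8, 9, 10, 11, 4, 3, 2, 1, 0, 5, 6, 7, 8, 9, 11] (Nat.shiftLeft 1 0)) = true := by decide +kernel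

theorem gr21 : sub (ones 306936) (U.growI ([23] :: W2) [4, 3, 2, 1, 0, 5, 6, 7, 8, 9, 11, 4, 3, 2, 1, 5, 6, 7, 8, 10, 4, 3, 2, 5, 6] M19) = true := by decide +kernel

theorem ff23 : U.fixFrom 19 306936 1 = true := by decide +kernel

theorem ff24 : U.fixFrom 19 306936 3 = true := by decide +kernel

theorem ff25 : U.fixFrom 19 306936 5 = true := by decide +kernel

theorem ff26 : U.fixFrom 19 306936 7 = true := by decide +kernel

theorem ff27 : U.fixFrom 19 306936 9 = true := by decide +kernel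

theorem ff28 : U.fixFrom 19 306936 11 = true := by decide +kernel

theorem ff29 : U.fixFrom 19 306936 13 = true := by decide +kernel

theorem ff30 : U.fixFrom 19 306936 15 = true := by decide +kernel

theorem ff31 : U.fixFrom 19 306936 17 = true := by decide +kernel

theorem ff32 : U.fixFrom 19 306936 19 = true := by decide +kernel

theorem ff33 : U.fixFrom 19 306936 21 = true := by decide +kernel

theorem ff34 : U.fixFrom 19 306936 23 = true := by decide +kernel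

end Cfsg.Agent.Spor.Fi306936.S
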