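import Cfsg.Agent.Spor.Prim
import Cfsg.Agent.Spor.Fi306936.Main
import Cfsg.Agent.Spor.Fi306936.S.C0

set_option autoImplicit false
set_option maxRecDepth 100000000
set_option Elab.async false

namespace Cfsg.Agent.Spor.Fi306936.S

theorem hU : U.Ok 19 := U.ok_of 19 (show AllP (fun n => Net.okb 19 n = true) [n0, n1, n2, n3, n4, n5, n6, n7, n8, n9, n10, n11, n12, n13] from AllP.cons ok0 (AllP.cons ok1 (AllP.cons ok2 (AllP.cons ok3 (AllP.cons ok4 (AllP.cons ok5 (AllP.cons ok6 (AllP.cons ok7 (AllP.cons ok8 (AllP.cons ok9 (AllP.cons ok10 (AllP.cons ok11 (AllP.cons ok12 (AllP.cons ok13 (AllP.nil)))))))))))))))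

theorem hfP : ∀ j < 12, U.fP [1, 3, 5, 7, 9, 11, 13, 15, 17, 19, 21, 23] j = fP j := by
  intro j hj
  interval_cases j <;> rfl
theorem eG : gsub 12 fP = U.lsub W1 := (gsub_congr hfP).symm.trans (lsub_eq_gsub U [1, 3, 5, 7, 9, 11, 13, 15, 17, 19, 21, 23])
theorem upz1 : ev (atm 12 fP) [0] = U.τ 1 := pz1
theorem upz3 : ev (atm 12 fP) [2] = U.τ 3 := pz2
theorem upz5 : ev (atm 12 fP) [4] = U.τ 5 := pz3
theorem upz7 : ev (atm 12 fP) [6] = U.τ 7 := pz4
theorem upz9 : ev (atm 12 fP) [8] = U.τ 9 := pz5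
theorem upz11 : ev (atm 12 fP) [10] = U.τ 11 := pz6
theorem upz13 : ev (atm 12 fP) [12] = U.τ 13 := pz7
theorem upz15 : ev (atm 12 fP) [14] = U.τ 15 := pz8
theorem upz17 : ev (atm 12 fP) [16] = U.τ 17 := pz9
theorem upz19 : ev (atm 12 fP) [18] = U.τ 19 := pz10
theorem upz21 : ev (atm 12 fP) [20] = U.τ 21 := pz11
theorem upz23 : ev (atm 12 fP) [22] = U.τ 23 := pz12
theorem upz25 : ev (atm 12 fP) [0, 2, 4, 6, 8, 10, 14] = U.τ 25 := pz13
theorem upz27 : ev (atm 12 fP) [6, 4, 2, 0, 22, 20, 6, 8, 10, 12, 18, 6, 14, 16] = U.τ 27 := pz15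
theorem eH : wsub 12 fP BW = U.lsub W2 :=
  lsub_eq_of_all₂ (show List.Forall₂ _ [[0], [2], [4], [6], [8], [10], [12], [14], [16], [18], [20]] [[1], [3], [5], [7], [9], [11], [13], [15], [17], [19], [21]] from List.Forall₂.cons (upz1.trans (one_mul _).symm) (List.Forall₂.cons (upz3.trans (one_mul _).symm) (List.Forall₂.cons (upz5.trans (one_mul _).symm) (List.Forall₂.cons (upz7.trans (one_mul _).symm) (List.Forall₂.cons (upz9.trans (one_mul _).symm) (List.Forall₂.cons (upz11.trans (one_mul _).symm) (List.Forall₂.cons (upz13.trans (one_mul _).symm) (List.Forall₂.cons (upz15.trans (one_mul _).symm) (List.Forall₂.cons (upz17.trans (one_mul _).symm) (List.Forall₂.cons (upz19.trans (one_mul _).symm) (List.Forall₂.cons (upz21.trans (one_mul _).symm) (List.Forall₂.nil))))))))))))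
theorem reach7 : Reach (U.lsub W2) 8 M5 := (Reach.grow hU (Reach.grow hU (Reach.base _ 8) gr4) gr6)
theorem reach12 : Reach (U.lsub ([23, 1, 21, 23] :: W2)) 0 (ones 306936) := (Reach.grow hU (Reach.grow hU (Reach.base _ 0) gr10) gr11)
theorem reach17 : Reach (U.lsub W2) 1 M15 := (Reach.grow hU (Reach.grow hU (Reach.base _ 1) gr14) gr16)
theorem reach22 : Reach (U.lsub ([23] :: W2)) 0 (ones 306936) := (Reach.grow hU (Reach.grow hU (Reach.base _ 0) gr20) gr21)
noncomputable def X : List SubO := [([23, 1, 21, 23], 8, M5), ([23], 1, M15)]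
theorem hX : AllP (SubOk U W2 W1) X :=
  show AllP (SubOk U W2 W1) [([23, 1, 21, 23], 8, M5), ([23], 1, M15)] from AllP.cons ⟨U.mem_letters (by decide), (hU.sends sd8), reach7⟩ (AllP.cons ⟨U.mem_letters (by decide), (hU.sends sd18), reach17⟩ (AllP.nil))
theorem hXc : subCov 306936 X = true := by decide +kernel
theorem hY : AllP (fun x : SubO => Reach (U.lsub (x.1 :: W2)) 0 (ones 306936)) X :=
  show AllP (fun x : SubO => Reach (U.lsub (x.1 :: W2)) 0 (ones 306936)) [([23, 1, 21, 23], 8, M5), ([23], 1, M15)] from AllP.cons reach12 (AllP.cons reach22 (AllP.nil))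
theorem hfix : gsub 12 fP ≤ FixFrom 306936 := (gsub_congr hfP).symm.le.trans (hU.gsub_fix (gs := [1, 3, 5, 7, 9, 11, 13, 15, 17, 19, 21, 23]) (AllP.cons ff23 (AllP.cons ff24 (AllP.cons ff25 (AllP.cons ff26 (AllP.cons ff27 (AllP.cons ff28 (AllP.cons ff29 (AllP.cons ff30 (AllP.cons ff31 (AllP.cons ff32 (AllP.cons ff33 (AllP.cons ff34 (AllP.nil))))))))))))))

end Cfsg.Agent.Spor.Fi306936.S
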